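import Cfsg.Prelude.Def_Blocks
import Mathlib

/-!
# S4933: outer automorphisms of an almost simple group (helper719)

* `cA` : the homomorphism `A → Aut(S)`, `N ≃* S` normal in `A`;
* `mem_of_cA` : `C_A(N) = 1` and `cA x` inner imply `x ∈ N`;
* `pow_of_mem` : for `x` in a Sylow `p`-subgroup: `(cA x) ^ p ^ k = 1`;
* `cyc_of` : `(N P) / N` is cyclic, if `Aut(S) / D` is cyclic and `D / Inn(S)` is of exponent prime to `p`.
-/

set_option autoImplicit false

open Subgroup

namespace Cfsg.Agent.H719.HT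

universe u v

variable {A : Type u} [Group A] {N : Subgroup A} [hNn : N.Normal] {S : Type v} [Group S]

/-- the action of `A` on `S ≃* N` -/
def cA (e : N ≃* S) : A →* MulAut S := (MulAut.congr e).toMonoidHom.comp (MulAut.conjNormal : A →* MulAut N)

theorem cA_apply (e : N ≃* S) (x : A) (y : N) :
    cA e x (e y) = e ⟨x * y * x⁻¹, hNn.conj_mem (y : A) y.2 x⟩ := by
  change e ((MulAut.conjNormal x : MulAut N) (e.symm (e y))) = _
  rw [e.symm_apply_apply]
  congr 1

theorem cA_mem (e : N ≃* S) (n : N) : cA e (n : A) = MulAut.conj (e n) := by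
  ext y
  obtain ⟨y, rfl⟩ := e.surjective y
  rw [cA_apply, MulAut.conj_apply, ← map_inv, ← map_mul, ← map_mul]
  rfl

theorem cA_inj (hcen : centralizer (N : Set A) = ⊥) (e : N ≃* S) : Function.Injective (cA e) := by
  rw [injective_iff_map_eq_one]
  intro x hx
  have h1 : x ∈ centralizer (N : Set A) := by
    rw [mem_centralizer_iff]
    intro y hy
    have h2 := cA_apply e x ⟨y, hy⟩
    rw [hx, MulAut.one_apply] at h2
    have h3 := congrArg Subtype.val (e.injective h2)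
    change y = x * y * x⁻¹ at h3
    rw [eq_mul_inv_iff_mul_eq] at h3
    exact h3
  rw [hcen, mem_bot] at h1
  exact h1

theorem mem_of_cA (hcen : centralizer (N : Set A) = ⊥) (e : N ≃* S) {x : A}
    (hx : cA e x ∈ (MulAut.conj : S →* MulAut S).range) : x ∈ N := by
  obtain ⟨s, hs⟩ := hx
  obtain ⟨n, rfl⟩ := e.surjective s
  rw [← cA_mem] at hs
  rw [← cA_inj hcen e hs]
  exact n.2

theorem range_le_map (e : N ≃* S) : (MulAut.conj : S →* MulAut S).range ≤ N.map (cA e) := by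
  rintro _ ⟨s, rfl⟩
  obtain ⟨n, rfl⟩ := e.surjective s
  exact ⟨n, n.2, cA_mem e n⟩

variable {p : ℕ} [hp : Fact p.Prime]

theorem pow_of_mem (e : N ≃* S) {P : Subgroup A} (hP : IsPGroup p P) {x : A} (hx : x ∈ P) :
    ∃ k, cA e x ^ p ^ k ∈ (MulAut.conj : S →* MulAut S).range := by
  obtain ⟨k, hk⟩ := hP ⟨x, hx⟩
  have hk' : x ^ p ^ k = 1 := congrArg Subtype.val hk
  refine ⟨k, ?_⟩
  rw [← map_pow, hk', map_one]
  exact one_mem _

/-- **`(N P) / N` is cyclic** -/
theorem cyc_of (hcen : centralizer (N : Set A) = ⊥) (e : N ≃* S) (D : Subgroup (MulAut S)) [D.Normal]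
    (hD : (MulAut.conj : S →* MulAut S).range ≤ D)
    {m : ℕ} (hm : ¬ p ∣ m) (hDm : ∀ d ∈ D, d ^ m ∈ (MulAut.conj : S →* MulAut S).range)
    [IsCyclic (MulAut S ⧸ D)] {P : Subgroup A} (hP : IsPGroup p P) {H : Subgroup A} (hH : H = N ⊔ P) :
    IsCyclic (↥H ⧸ N.subgroupOf H) := by
  subst hH
  let f : ↥(N ⊔ P) →* MulAut S ⧸ D := (QuotientGroup.mk' D).comp ((cA e).comp (N ⊔ P).subtype)
  have hf : f.ker = N.subgroupOf (N ⊔ P) := by
    ext x
    rw [MonoidHom.mem_ker, mem_subgroupOf]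
    change ((cA e (x : A) : MulAut S) : MulAut S ⧸ D) = 1 ↔ _
    rw [QuotientGroup.eq_one_iff]
    constructor
    · intro hx
      obtain ⟨x, hxm⟩ := x
      change cA e x ∈ D at hx
      change x ∈ N
      obtain ⟨n, hn, y, hy, rfl⟩ := mem_sup_of_normal_left.1 hxm
      have h1 : cA e y ∈ D := by
        rw [map_mul] at hx
        have h2 : cA e n ∈ D := hD ⟨e ⟨n, hn⟩, (cA_mem e ⟨n, hn⟩).symm⟩
        exact (D.mul_mem_cancel_left h2).1 hx
      obtain ⟨k, hk⟩ := pow_of_mem e hP hy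
      have h3 := hDm _ h1
      have hcop : IsCoprime ((p ^ k : ℕ) : ℤ) (m : ℤ) := by
        rw [Nat.isCoprime_iff_coprime]
        exact Nat.Coprime.pow_left _ ((Nat.Prime.coprime_iff_not_dvd hp.out).2 hm)
      obtain ⟨u, v, huv⟩ := hcop
      have h4 : cA e y = (cA e y ^ p ^ k) ^ u * (cA e y ^ m) ^ v := by
        rw [← zpow_natCast (cA e y) (p ^ k), ← zpow_natCast (cA e y) m, ← zpow_mul, ← zpow_mul, ← zpow_add,
          mul_comm _ u, mul_comm _ v, huv, zpow_one]
      have h5 : cA e y ∈ (MulAut.conj : S →* MulAut S).range := by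
        rw [h4]
        exact mul_mem (zpow_mem hk u) (zpow_mem h3 v)
      exact N.mul_mem hn (mem_of_cA hcen e h5)
    · intro hx
      exact hD ⟨e ⟨x, hx⟩, (cA_mem e ⟨x, hx⟩).symm⟩
  have e1 : ↥(N ⊔ P) ⧸ N.subgroupOf (N ⊔ P) ≃* f.range :=
    (QuotientGroup.quotientMulEquivOfEq hf.symm).trans (QuotientGroup.quotientKerEquivRange f)
  exact isCyclic_of_surjective e1.symm e1.symm.surjective

end Cfsg.Agent.H719.HT
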