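import Cfsg.Agent.H719.HT.TrU
import Cfsg.Agent.H719.HT.OutG
import Cfsg.Agent.LieRecognition.FieldSemilinear

/-!
# S4933: outer automorphisms of `PSU_n(q)` (helper719)

* `dnorm`, `cyc_d`, `pow_d` : the group `D = f₁(GU)` of the inner-diagonal automorphisms;
* `cyc_psu` : `(N P) / N` is cyclic for `N ≃* PSU_n(q)`, `p ∤ q + 1`;
* `inv_psu` : the member of `B₀(N)` below `χ ∈ B₀(GU_n(q))` is invariant under `P`.
-/

set_option autoImplicit false
set_option linter.unusedSectionVars false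

open Cfsg Subgroup Matrix
open Cfsg.Agent.H107.AutU Cfsg.Agent.ClassicalGeometry.PSUAutCount Cfsg.Agent.Schreier.PSU
open Cfsg.Agent.LieClassical.HermBasic Cfsg.Agent.LieClassical.HermSiegel
open Cfsg.Agent.ClassicalGeometry.UnitAutBasic (pr pr_surjective)
open Cfsg.Agent.H624.XZ

namespace Cfsg.Agent.H719.HT

universe u v

variable {F : Type u} [Field F] [Fintype F] {q n : ℕ}

theorem dnorm (hF : Fintype.card F = q ^ 2) (hn : 3 ≤ n) (h32 : ¬ (n = 3 ∧ q = 2)) :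
    ((f₁ (F := F) (q := q) (n := n)).range).Normal := by
  have := H202.Psu.inndiag_normal hF hn h32
  rwa [H202.Psu.inndiag_eq] at this

theorem inn_le (hF : Fintype.card F = q ^ 2) :
    (MulAut.conj : PSU n F q →* MulAut (PSU n F q)).range ≤ (f₁ (F := F) (q := q) (n := n)).range := by
  rintro _ ⟨x, rfl⟩
  obtain ⟨g, rfl⟩ := pr_surjective x
  obtain ⟨G0, hG0, hG⟩ := ClassicalGeometry.HermOrtho.exists_GU_of_isometry hF (M := mat g)
    (fun u v => herm_act g u v)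
  exact ⟨⟨G0, hG0⟩, f₁_eq_conj ⟨G0, hG0⟩ g hG⟩

theorem pow_d (hF : Fintype.card F = q ^ 2) {d : MulAut (PSU n F q)} (hd : d ∈ (f₁ (F := F) (q := q) (n := n)).range) :
    d ^ (q + 1) ∈ (MulAut.conj : PSU n F q →* MulAut (PSU n F q)).range := by
  obtain ⟨B, rfl⟩ := hd
  rw [← map_pow]
  obtain ⟨g, hg⟩ := exists_conj_of_dt (B ^ (q + 1)) (by rw [map_pow, dt_pow hF])
  exact ⟨pr n F q g, hg.symm⟩

theorem cyc_d (hF : Fintype.card F = q ^ 2) (hn : 3 ≤ n) (h32 : ¬ (n = 3 ∧ q = 2))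
    [(f₁ (F := F) (q := q) (n := n)).range.Normal] :
    IsCyclic (MulAut (PSU n F q) ⧸ (f₁ (F := F) (q := q) (n := n)).range) := by
  have h0 : ∀ A : GU n F q, ((f₁ A : MulAut (PSU n F q)) : MulAut (PSU n F q) ⧸ (f₁ (F := F) (q := q) (n := n)).range) = 1 :=
    fun A => (QuotientGroup.eq_one_iff _).2 ⟨A, rfl⟩
  have hc : IsCyclic (F ≃+* F) := LieRecognition.FieldSemilinear.isCyclic_ringAut F
  refine isCyclic_of_surjective ((QuotientGroup.mk' (f₁ (F := F) (q := q) (n := n)).range).comp f₂) ?_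
  intro x
  obtain ⟨α, rfl⟩ := QuotientGroup.mk_surjective x
  obtain ⟨A, ρ, rfl⟩ := ClassicalGeometry.PSUAutMain.exists_toAut hF hn h32 α
  refine ⟨ρ, ?_⟩
  rw [toAut_eq, QuotientGroup.mk_mul, h0, one_mul]
  rfl

variable {p : ℕ} [hp : Fact p.Prime] {M : Ideal AlgInt} {A : Type v} [Group A] {N : Subgroup A} [hNn : N.Normal]

/-- **`(N P) / N` is cyclic** -/
theorem cyc_psu (hF : Fintype.card F = q ^ 2) (hn : 3 ≤ n) (h32 : ¬ (n = 3 ∧ q = 2)) (hpq : ¬ p ∣ q + 1)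
    (hcen : centralizer (N : Set A) = ⊥) (e : N ≃* PSU n F q) {P : Subgroup A} (hP : IsPGroup p P) {H : Subgroup A}
    (hH : H = N ⊔ P) : IsCyclic (↥H ⧸ N.subgroupOf H) := by
  have h1 := dnorm (F := F) hF hn h32
  have h2 := cyc_d (F := F) hF hn h32
  exact cyc_of hcen e _ (inn_le hF) hpq (fun d hd => pow_d hF hd) hP hH

/-- **the `P`-invariant member of `B₀(N)`** -/
theorem inv_psu (hM : IsPModular p M) (hp2 : p ≠ 2) (hF : Fintype.card F = q ^ 2) (hn : 3 ≤ n)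
    (h32 : ¬ (n = 3 ∧ q = 2)) (hpF : (p : F) ≠ 0)
    (hpq : ¬ p ∣ q + 1) {χ : IrrCharacter (GU n F q)} (hχ : χ ∈ principalBlock M (GU n F q))
    (hfld : ∀ (ρ : F ≃+* F) (k : ℕ), ρ ^ (p ^ k) = 1 → ∀ g : GU n F q,
      (χ : GU n F q → ℂ) (mapGU ρ g) = (χ : GU n F q → ℂ) g) (e : N ≃* PSU n F q) {P : Subgroup A}
    (hP : IsPGroup p P) :
    ∃ ψ : IrrCharacter N, ψ ∈ principalBlock M N ∧ charDegree (ψ : N → ℂ) = charDegree (χ : GU n F q → ℂ) ∧
      ∀ x ∈ P, ∀ y : N, (ψ : N → ℂ) ⟨x * y * x⁻¹, hNn.conj_mem (y : A) y.2 x⟩ = (ψ : N → ℂ) y := by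
  obtain ⟨ψ, h1, -, h3, h4⟩ := tr_gu_aut hM hp2 hF hn h32 hpF hpq hχ hfld
  have hfS : Finite (SU n F q) := Finite.of_injective (mat : SU n F q → _) mat_injective
  have hfS' : Finite (PSU n F q) := Finite.of_surjective (pr n F q) pr_surjective
  have hfN : Finite N := Finite.of_equiv _ e.symm.toEquiv
  have hsurj : Function.Surjective (e : N →* PSU n F q) := e.surjective
  refine ⟨⟨fun y => (ψ : PSU n F q → ℂ) (e y), Characters.Core.isIrr_comp (e : N →* PSU n F q) hsurj ψ.2⟩, ?_, ?_, ?_⟩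
  · have := Blocks.Local.isPrime_of_isPModular hM
    exact H133.PB.mem_principalBlock_comp (e : N →* PSU n F q) hsurj h1
  · rw [← h3]
    change ⌊((ψ : PSU n F q → ℂ) (e 1)).re⌋₊ = ⌊((ψ : PSU n F q → ℂ) 1).re⌋₊
    rw [map_one]
  · intro x hx y
    obtain ⟨k, hk⟩ := pow_of_mem e hP hx
    have h5 := h4 (cA e x) k hk (e y)
    rw [cA_apply] at h5
    exact h5

end Cfsg.Agent.H719.HT
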