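import Cfsg.Agent.H624.XZ.Trans
import Cfsg.Agent.H202.Psu
import Cfsg.Agent.ClassicalGeometry.PSUAutMain

/-!
# S4933, unitary groups: from `B₀(GU_n)` to `B₀(PSU_n)` (helper719)

* `tr_gen` : `N` normal, `G = N C_G(P)`, `π : N → C` onto with kernel of order prime to `p`;
* `tr_gu` : `χ ∈ B₀(GU_n(q))` gives `ψ ∈ B₀(PSU_n(q))`, `ψ (pr s) = χ (s)`, invariant under `GU_n(q)` and under the field
  automorphisms which fix `χ`;
* `exists_eq_of_pow` : the automorphisms of `PSU_n(q)` of `p`-power order modulo `Inn`;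
* `tr_gu_aut` : `ψ` is invariant under them.
-/

set_option autoImplicit false
set_option linter.unusedSectionVars false

open Cfsg Subgroup Matrix
open Cfsg.Agent.H107.AutU Cfsg.Agent.ClassicalGeometry.PSUAutCount Cfsg.Agent.Schreier.PSU
open Cfsg.Agent.LieClassical.HermBasic Cfsg.Agent.LieClassical.HermSiegel
open Cfsg.Agent.ClassicalGeometry.UnitAutBasic (pr pr_surjective)
open Cfsg.Agent.H624.XZ

namespace Cfsg.Agent.H719.HT

universe u v

section general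

variable {p : ℕ} [hp : Fact p.Prime] {M : Ideal AlgInt}

theorem tr_gen (hM : IsPModular p M) {G : Type u} [Group G] [Finite G] (N : Subgroup G) [N.Normal] (P : Sylow p G)
    (hsup : N ⊔ centralizer ((P : Subgroup G) : Set G) = ⊤) {C : Type v} [Group C] {π : N →* C}
    (hπ : Function.Surjective π) (hK : ¬ p ∣ Nat.card π.ker) {χ : IrrCharacter G} (hχ : χ ∈ principalBlock M G) :
    ∃ ψ : IrrCharacter C, ψ ∈ principalBlock M C ∧ ∀ s : N, (ψ : C → ℂ) (π s) = (χ : G → ℂ) s := by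
  have hfC : Finite C := Finite.of_surjective π hπ
  obtain ⟨ψ, h1, h2⟩ := Blocks.PrincipalInflate.exists_comp hM hπ hK
    (H685.Alperin.restrict_mem hM hχ (H685.Alperin.isIrr_restrict hM P hsup hχ))
  exact ⟨ψ, h1, fun s => (congrFun h2 s).symm⟩

end general

variable {F : Type u} [Field F] [Fintype F] {q n p : ℕ} [hp : Fact p.Prime] {M : Ideal AlgInt}

/-- **from `B₀(GU_n)` to `B₀(PSU_n)`** -/
theorem tr_gu (hM : IsPModular p M) (hp2 : p ≠ 2) (hF : Fintype.card F = q ^ 2) (hn : 3 ≤ n) (hpF : (p : F) ≠ 0)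
    (hpq : ¬ p ∣ q + 1) {χ : IrrCharacter (GU n F q)} (hχ : χ ∈ principalBlock M (GU n F q)) :
    ∃ ψ : IrrCharacter (PSU n F q), ψ ∈ principalBlock M (PSU n F q) ∧
      (∀ s : (dt n F q).ker, (ψ : PSU n F q → ℂ) (toPSU n F q s) = (χ : GU n F q → ℂ) s) ∧
      charDegree (ψ : PSU n F q → ℂ) = charDegree (χ : GU n F q → ℂ) ∧
      (∀ (A : GU n F q) (x : PSU n F q), (ψ : PSU n F q → ℂ) (f₁ A x) = (ψ : PSU n F q → ℂ) x) ∧
      (∀ ρ : F ≃+* F, (∀ g : GU n F q, (χ : GU n F q → ℂ) (mapGU ρ g) = (χ : GU n F q → ℂ) g) →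
        ∀ x : PSU n F q, (ψ : PSU n F q → ℂ) (f₂ ρ x) = (ψ : PSU n F q → ℂ) x) := by
  obtain ⟨P⟩ : Nonempty (Sylow p (GU n F q)) := inferInstance
  obtain ⟨ψ, h1, h2⟩ := tr_gen hM (dt n F q).ker P (sup_gu hp2 hF (by omega) hpF hpq P) toPSU_surjective
    (toPSU_ker hF hn hpq) hχ
  refine ⟨ψ, h1, h2, ?_, ?_, ?_⟩
  · have h3 := h2 1
    rw [map_one] at h3
    change ⌊((ψ : PSU n F q → ℂ) 1).re⌋₊ = ⌊((χ : GU n F q → ℂ) 1).re⌋₊
    rw [h3]
    rfl
  · intro A x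
    obtain ⟨s, rfl⟩ := toPSU_surjective x
    have h3 : (f₁ A : MulAut (PSU n F q)) (toPSU n F q s) =
        toPSU n F q ⟨A * s * A⁻¹, (inferInstance : (dt n F q).ker.Normal).conj_mem _ s.2 A⟩ := by
      change toAut A 1 (pr n F q (toSU n F q s)) = pr n F q (toSU n F q _)
      rw [toAut_pr']
      congr 1
    rw [h3, h2, h2]
    exact Characters.Core.isIrr_isClassFunction χ.2 _ _
  · intro ρ hρ x
    obtain ⟨s, rfl⟩ := toPSU_surjective x
    have hmem : mapGU ρ (s : GU n F q) ∈ (dt n F q).ker := by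
      rw [MonoidHom.mem_ker]
      apply Units.ext
      have h4 : (gm (s : GU n F q)).det = 1 := congrArg Units.val s.2
      change (Matrix.GeneralLinearGroup.map (ρ : F →+* F) ((s : GU n F q) : GL (Fin n) F) : Matrix (Fin n) (Fin n) F).det = 1
      change ((ρ : F →+* F).mapMatrix (gm (s : GU n F q))).det = 1
      rw [← RingHom.map_det, h4, map_one]
    have h3 : (f₂ ρ : MulAut (PSU n F q)) (toPSU n F q s) = toPSU n F q ⟨mapGU ρ s, hmem⟩ := by
      change toAut 1 ρ (pr n F q (toSU n F q s)) = pr n F q (toSU n F q _)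
      rw [toAut_pr']
      congr 1
      apply ext_act
      intro x
      have hx : x = fun i => ρ ((fun j => ρ.symm (x j)) i) := by
        funext i
        simp
      rw [hx, act_semiConj_field]
      exact (gm_mapGU ρ (s : GU n F q) _).symm
    rw [h3, h2, h2]
    exact hρ _

/-- automorphisms of `p`-power order modulo `Inn` -/
theorem exists_eq_of_pow (hF : Fintype.card F = q ^ 2) (hn : 3 ≤ n) (h32 : ¬ (n = 3 ∧ q = 2)) (α : MulAut (PSU n F q))
    {k : ℕ} (hα : α ^ k ∈ (MulAut.conj : PSU n F q →* MulAut (PSU n F q)).range) :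
    ∃ (A : GU n F q) (ρ : F ≃+* F), α = f₁ A * f₂ ρ ∧ ρ ^ k = 1 := by
  obtain ⟨A, ρ, rfl⟩ := ClassicalGeometry.PSUAutMain.exists_toAut hF hn h32 α
  rw [toAut_eq] at hα ⊢
  refine ⟨A, ρ, rfl, ?_⟩
  have hN : ((f₁ (F := F) (q := q) (n := n)).range).Normal := by
    have := H202.Psu.inndiag_normal hF hn h32
    rwa [H202.Psu.inndiag_eq] at this
  have hle : (MulAut.conj : PSU n F q →* MulAut (PSU n F q)).range ≤ (f₁ (F := F) (q := q) (n := n)).range := by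
    rintro _ ⟨x, rfl⟩
    obtain ⟨g, rfl⟩ := pr_surjective x
    obtain ⟨G0, hG0, hG⟩ := ClassicalGeometry.HermOrtho.exists_GU_of_isometry hF (M := mat g)
      (fun u v => herm_act g u v)
    exact ⟨⟨G0, hG0⟩, f₁_eq_conj ⟨G0, hG0⟩ g hG⟩
  have h0 : ∀ A : GU n F q, ((f₁ A : MulAut (PSU n F q)) : MulAut (PSU n F q) ⧸ (f₁ (F := F) (q := q) (n := n)).range) = 1 :=
    fun A => (QuotientGroup.eq_one_iff _).2 ⟨A, rfl⟩
  have h1 : (((f₁ A * f₂ ρ) ^ k : MulAut (PSU n F q)) : MulAut (PSU n F q) ⧸ (f₁ (F := F) (q := q) (n := n)).range) = 1 :=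
    (QuotientGroup.eq_one_iff _).2 (hle hα)
  rw [QuotientGroup.mk_pow, QuotientGroup.mk_mul, h0, one_mul, ← QuotientGroup.mk_pow, ← map_pow,
    QuotientGroup.eq_one_iff] at h1
  obtain ⟨B, hB⟩ := h1
  exact (eq_of_toAut_eq hF hn (A := B) (ρ := 1) (A' := 1) (ρ' := ρ ^ k) hB).1

/-- **invariance under the automorphisms of `p`-power order modulo `Inn`** -/
theorem tr_gu_aut (hM : IsPModular p M) (hp2 : p ≠ 2) (hF : Fintype.card F = q ^ 2) (hn : 3 ≤ n)
    (h32 : ¬ (n = 3 ∧ q = 2)) (hpF : (p : F) ≠ 0)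
    (hpq : ¬ p ∣ q + 1) {χ : IrrCharacter (GU n F q)} (hχ : χ ∈ principalBlock M (GU n F q))
    (hfld : ∀ (ρ : F ≃+* F) (k : ℕ), ρ ^ (p ^ k) = 1 → ∀ g : GU n F q,
      (χ : GU n F q → ℂ) (mapGU ρ g) = (χ : GU n F q → ℂ) g) :
    ∃ ψ : IrrCharacter (PSU n F q), ψ ∈ principalBlock M (PSU n F q) ∧
      (∀ s : (dt n F q).ker, (ψ : PSU n F q → ℂ) (toPSU n F q s) = (χ : GU n F q → ℂ) s) ∧
      charDegree (ψ : PSU n F q → ℂ) = charDegree (χ : GU n F q → ℂ) ∧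
      ∀ (α : MulAut (PSU n F q)) (k : ℕ), α ^ (p ^ k) ∈ (MulAut.conj : PSU n F q →* MulAut (PSU n F q)).range →
        ∀ x : PSU n F q, (ψ : PSU n F q → ℂ) (α x) = (ψ : PSU n F q → ℂ) x := by
  obtain ⟨ψ, h1, h2, h3, h4, h5⟩ := tr_gu hM hp2 hF hn hpF hpq hχ
  refine ⟨ψ, h1, h2, h3, fun α k hα x => ?_⟩
  obtain ⟨A, ρ, rfl, hρ⟩ := exists_eq_of_pow hF hn h32 α hα
  rw [MulAut.mul_apply, h4, h5 ρ (hfld ρ k hρ)]

end Cfsg.Agent.H719.HT
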